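import Cfsg.Agent.Classical.Unitary.Parabolic

/-!
Involutions of `SU_3(q)`, `q` odd, as reflections in non-isotropic points.
-/

set_option autoImplicit false

namespace CfsgLib.Unitary

open Cfsg Matrix

variable {F : Type*} [Field F] [Fintype F] {n q : ℕ}

theorem orthonorm_expand (hF : Fintype.card F = q ^ 2) {f : Fin n → Fin n → F} (hf : Orthonorm q f)
    (x : Fin n → F) : x = ∑ i, hermForm n F q x (f i) • f i := by
  have hspan : Submodule.span F (Set.range f) = ⊤ :=
    Submodule.eq_top_of_finrank_eq (by rw [finrank_span_eq_card (hf.linearIndependent hF)]; simp)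
  obtain ⟨c, hc⟩ := (Submodule.mem_span_range_iff_exists_fun F).1 (hspan ▸ Submodule.mem_top : x ∈ Submodule.span F (Set.range f))
  conv_lhs => rw [← hc]
  refine Finset.sum_congr rfl fun i _ => ?_
  rw [← hc, hf.sum_right hF]

theorem orthonorm_pair {v w : Fin n → F} (hF : Fintype.card F = q ^ 2) (hv : hermForm n F q v v = 1)
    (hw : hermForm n F q w w = 1) (hvw : hermForm n F q w v = 0) : Orthonorm q ![v, w] := by
  intro i j
  fin_cases i <;> fin_cases j
  · simpa using hv
  · simpa using herm_eq_zero_comm hF hvw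
  · simpa using hvw
  · simpa using hw

theorem two_ne_zero_of_odd (hF : Fintype.card F = q ^ 2) (hq : Odd q) : (2 : F) ≠ 0 := by
  intro h
  haveI : CharP F 2 := CharTwo.of_one_ne_zero_of_two_eq_zero one_ne_zero h
  obtain ⟨k, -, hk⟩ := FiniteField.card F 2
  rw [hF] at hk
  have h2 : Even (q ^ 2) := by rw [hk]; exact (even_two).pow_of_ne_zero k.pos.ne'
  exact (Nat.not_even_iff_odd.2 hq) (Nat.even_pow.1 h2).1

/-- The matrix of the reflection fixing `v` and negating its orthogonal complement. -/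
def reflMat (q : ℕ) (v : Fin 3 → F) : Matrix (Fin 3) (Fin 3) F := -rankOne q ((-2 : F) • v) v

/-- The involution of `SU_3(q)` attached to a vector of norm one. -/
def refl (hF : Fintype.card F = q ^ 2) (v : {v : Fin 3 → F // hermForm 3 F q v v = 1}) : ↥(SU 3 F q) :=
  ⟨⟨reflMat q v.1, by
      rw [reflMat, Matrix.det_neg, det_rankOne, herm_smul_left, v.2]; simp; norm_num⟩,
    mem_SU.2 fun x y => by
      show hermForm 3 F q ((-rankOne q ((-2 : F) • v.1) v.1) *ᵥ x) ((-rankOne q ((-2 : F) • v.1) v.1) *ᵥ y) = _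
      rw [Matrix.neg_mulVec, Matrix.neg_mulVec, herm_neg_left, herm_neg_right hF, neg_neg]
      have hc : (-2 : F) + (-2) ^ q + (-2) ^ (q + 1) * hermForm 3 F q v.1 v.1 = 0 := by
        have h1 : (1 : F) ^ q = 1 := one_pow q
        have h2 : (-2 : F) ^ q = -2 := by
          rw [show (-2 : F) = -(1 + 1) by norm_num, neg_pow_q hF, add_pow_q hF, h1]
        rw [v.2, pow_succ, h2]; ring
      exact rankOne_self_preserves hF v.1 (-2) hc x y⟩

variable (hF : Fintype.card F = q ^ 2)

include hF in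
theorem sv_refl (v : {v : Fin 3 → F // hermForm 3 F q v v = 1}) (x : Fin 3 → F) :
    sv (refl hF v) x = -x + (2 * hermForm 3 F q x v.1) • v.1 := by
  show (-rankOne q ((-2 : F) • v.1) v.1) *ᵥ x = _
  rw [Matrix.neg_mulVec, rankOne_mulVec, smul_smul, neg_add, ← neg_smul]
  congr 2
  ring

theorem refl_mul_self (v : {v : Fin 3 → F // hermForm 3 F q v v = 1}) : refl hF v * refl hF v = 1 := by
  refine sv_ext fun x => ?_
  rw [sv_mul, sv_refl, sv_refl, sv_one, herm_add_left, herm_neg_left, herm_smul_left, v.2]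
  module

theorem sv_refl_self (v : {v : Fin 3 → F // hermForm 3 F q v v = 1}) : sv (refl hF v) v.1 = v.1 := by
  rw [sv_refl, v.2]; module

theorem refl_conj (g : ↥(SU 3 F q)) (v : {v : Fin 3 → F // hermForm 3 F q v v = 1}) :
    g * refl hF v * g⁻¹ = refl hF ⟨sv g v.1, by rw [sv_herm, v.2]⟩ := by
  refine sv_ext fun x => ?_
  have h : hermForm 3 F q (sv g⁻¹ x) v.1 = hermForm 3 F q x (sv g v.1) := by
    rw [← sv_herm g, sv_sv_inv]
  rw [sv_mul, sv_mul, sv_refl, sv_refl, sv_add, sv_smul, h,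
    show -(sv g⁻¹ x) = (-1 : F) • sv g⁻¹ x by module, sv_smul, sv_sv_inv]
  module

variable (h2 : (2 : F) ≠ 0)

include h2 in
theorem refl_eq_refl_iff (v w : {v : Fin 3 → F // hermForm 3 F q v v = 1}) :
    refl hF v = refl hF w ↔ ∃ c : F, w.1 = c • v.1 := by
  constructor
  · intro h
    refine ⟨hermForm 3 F q w.1 v.1, ?_⟩
    have h1 : sv (refl hF v) w.1 = w.1 := by rw [h, sv_refl_self]
    rw [sv_refl] at h1
    have h3 : (2 : F) • (w.1 - hermForm 3 F q w.1 v.1 • v.1) = 0 := by
      linear_combination (norm := module) -h1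
    exact sub_eq_zero.1 ((smul_eq_zero.1 h3).resolve_left h2)
  · rintro ⟨c, hc⟩
    have hn : c ^ (q + 1) = 1 := by
      have := w.2
      rw [hc, herm_self_smul, v.2, mul_one] at this
      exact this
    refine sv_ext fun x => ?_
    rw [sv_refl, sv_refl, hc, herm_smul_right, smul_smul]
    congr 2
    rw [pow_succ] at hn
    linear_combination (-2 * hermForm 3 F q x v.1) * hn

include h2 in
theorem refl_ne_one (v : {v : Fin 3 → F // hermForm 3 F q v v = 1}) : refl hF v ≠ 1 := by
  intro h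
  obtain ⟨w, -, hw1, hwv⟩ := exists_orthonorm_next hF (isNondeg_top hF) (k := 1) (f := fun _ => v.1)
    (fun i j => by simp [Subsingleton.elim i j, v.2]) (fun _ => trivial) (by simp)
  have h1 := congrArg (fun g => sv g w) h
  simp only [sv_refl, sv_one, hwv 0, mul_zero, zero_smul, add_zero] at h1
  have hw0 : w = 0 := by
    have h3 : (2 : F) • w = 0 := by linear_combination (norm := module) -h1
    exact (smul_eq_zero.1 h3).resolve_left h2
  rw [hw0, herm_zero_left] at hw1
  exact zero_ne_one hw1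

include h2 in
theorem commute_refl_iff (v w : {v : Fin 3 → F // hermForm 3 F q v v = 1}) :
    Commute (refl hF v) (refl hF w) ↔ refl hF v = refl hF w ∨ hermForm 3 F q w.1 v.1 = 0 := by
  constructor
  · intro h
    have hconj := refl_conj hF (refl hF v) w
    rw [show refl hF v * refl hF w * (refl hF v)⁻¹ = refl hF w by rw [h.eq, mul_inv_cancel_right]] at hconj
    obtain ⟨c, hc⟩ := (refl_eq_refl_iff hF h2 _ _).1 hconj
    simp only [sv_refl] at hc
    by_cases h0 : hermForm 3 F q w.1 v.1 = 0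
    · exact Or.inr h0
    · refine Or.inl ((refl_eq_refl_iff hF h2 w v).2 ⟨(c + 1) / (2 * hermForm 3 F q w.1 v.1), ?_⟩).symm
      rw [div_eq_inv_mul, mul_smul, show (c + 1) • w.1 = (2 * hermForm 3 F q w.1 v.1) • v.1 by
        linear_combination (norm := module) -hc, inv_smul_smul₀ (mul_ne_zero h2 h0)]
  · rintro (h | h)
    · rw [h]
    · have hconj := refl_conj hF (refl hF v) w
      have : refl hF v * refl hF w * (refl hF v)⁻¹ = refl hF w := by
        rw [hconj]
        exact ((refl_eq_refl_iff hF h2 _ _).2 ⟨-1, by simp [sv_refl, h]⟩).symm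
      exact mul_inv_eq_iff_eq_mul.1 this

include h2 in
theorem exists_eq_refl (t : ↥(SU 3 F q)) (ht : t ≠ 1) (ht2 : t * t = 1) :
    ∃ v, t = refl hF v := by
  classical
  let E : Submodule F (Fin 3 → F) :=
    { carrier := {x | sv t x = x}
      zero_mem' := by show sv t 0 = 0; exact Matrix.mulVec_zero _
      add_mem' := fun {a b} ha hb => by show sv t (a + b) = a + b; rw [sv_add, ha, hb]
      smul_mem' := fun c a ha => by show sv t (c • a) = c • a; rw [sv_smul, ha] }
  have htt : ∀ x, sv t (sv t x) = x := fun x => by rw [← sv_mul, ht2, sv_one]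
  have hproj : ∀ x, x + sv t x ∈ E := fun x => by
    show sv t (x + sv t x) = _
    rw [sv_add, htt, add_comm]
  have hadj : ∀ x e, e ∈ E → hermForm 3 F q (sv t x) e = hermForm 3 F q x e := fun x e he => by
    conv_lhs => rw [show e = sv t e from he.symm]
    rw [sv_herm]
  have hnd : IsNondeg q E := by
    intro e he h
    refine herm_nondeg hF e fun x => ?_
    have h1 := h _ (hproj x)
    rw [herm_add_right hF, show hermForm 3 F q e (sv t x) = hermForm 3 F q e x by
      rw [herm_conj hF (sv t x) e, hadj x e he, ← herm_conj hF]] at h1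
    have h3 : (2 : F) * hermForm 3 F q e x = 0 := by linear_combination h1
    exact (mul_eq_zero.1 h3).resolve_left h2
  have hlt : Module.finrank F E = 1 := by
    rcases Nat.lt_or_ge (Module.finrank F E) 2 with hlt | hge
    · rcases Nat.eq_zero_or_pos (Module.finrank F E) with h0 | hpos
      · exfalso
        rw [Submodule.finrank_eq_zero] at h0
        have hneg : ∀ x, sv t x = -x := fun x => by
          have := hproj x
          rw [h0, Submodule.mem_bot] at this
          exact eq_neg_of_add_eq_zero_right this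
        have hm : ((t : Matrix.SpecialLinearGroup (Fin 3) F) : Matrix (Fin 3) (Fin 3) F) = -1 :=
          Matrix.ext_iff_mulVec.2 fun x => by rw [Matrix.neg_mulVec, Matrix.one_mulVec]; exact hneg x
        have hd := t.1.2
        rw [show (t.1.1 : Matrix (Fin 3) (Fin 3) F) = -1 from hm, Matrix.det_neg, Matrix.det_one] at hd
        simp only [Fintype.card_fin, mul_one] at hd
        exact h2 (by linear_combination -hd)
      · omega
    · exfalso
      obtain ⟨f, hf, hfE, -⟩ := exists_orthonorm_basis hF hnd rfl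
      have hf2 : Orthonorm q (fun i : Fin 2 => f (Fin.castLE hge i)) := fun i j => by
        rw [hf]; simp [Fin.castLE_inj]
      obtain ⟨u, -, hu1, hu2⟩ := exists_orthonorm_next hF (isNondeg_top hF) hf2 (fun _ => trivial) (by simp)
      set g := Fin.snoc (α := fun _ => Fin 3 → F) (fun i : Fin 2 => f (Fin.castLE hge i)) u with hg
      have hgo : Orthonorm q g := hf2.snoc hF hu1 hu2
      have hfix : ∀ i : Fin 2, sv t (g i.castSucc) = g i.castSucc := fun i => by
        rw [hg, Fin.snoc_castSucc]; exact hfE _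
      have hu' : sv t u = hermForm 3 F q (sv t u) u • u := by
        have hz : ∀ i : Fin 2, hermForm 3 F q (sv t u) (g i.castSucc) = 0 := fun i => by
          rw [hadj u _ (hfix i), hg, Fin.snoc_castSucc, hu2 i]
        have h := orthonorm_expand hF hgo (sv t u)
        rw [Fin.sum_univ_castSucc] at h
        simp only [hz, zero_smul, Finset.sum_const_zero, zero_add] at h
        have hl : g (Fin.last 2) = u := by rw [hg, Fin.snoc_last]
        rwa [hl] at h
      set lam := hermForm 3 F q (sv t u) u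
      have hcols : ((t : Matrix.SpecialLinearGroup (Fin 3) F) : Matrix (Fin 3) (Fin 3) F) * (Matrix.of fun i j => g j i) =
          (Matrix.of fun i j => g j i) * Matrix.diagonal (Fin.snoc (α := fun _ => F) (fun _ : Fin 2 => 1) lam) := by
        ext i j
        rw [Matrix.mul_diagonal]
        show (sv t (g j)) i = g j i * _
        refine Fin.lastCases ?_ (fun j => ?_) j
        · rw [hg, Fin.snoc_last, Fin.snoc_last]
          rw [show sv t u = lam • u from hu', Pi.smul_apply, smul_eq_mul, mul_comm]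
        · rw [hfix, Fin.snoc_castSucc, mul_one]
      have hdet := congrArg Matrix.det hcols
      rw [Matrix.det_mul, Matrix.det_mul, t.1.2, one_mul, Matrix.det_diagonal, Fin.prod_univ_castSucc] at hdet
      simp only [Fin.snoc_castSucc, Fin.snoc_last, Finset.prod_const_one, one_mul] at hdet
      have hd0 := (isUnit_det_of_orthonorm hF (M := Matrix.of fun i j => g j i) hgo).ne_zero
      have hlam : lam = 1 := by
        have h3 : (Matrix.of fun i j => g j i).det * (lam - 1) = 0 := by linear_combination -hdet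
        exact sub_eq_zero.1 ((mul_eq_zero.1 h3).resolve_left hd0)
      apply ht
      refine sv_ext fun x => ?_
      have hall : ∀ j, sv t (g j) = g j := fun j => Fin.lastCases
        (by rw [hg, Fin.snoc_last, show sv t u = lam • u from hu', hlam, one_smul]) hfix j
      rw [sv_one]
      conv_rhs => rw [orthonorm_expand hF hgo x]
      conv_lhs => rw [orthonorm_expand hF hgo x]
      rw [show sv t (∑ i, hermForm 3 F q x (g i) • g i) = ∑ i, sv t (hermForm 3 F q x (g i) • g i) from
        Matrix.mulVec_sum _ _ _]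
      exact Finset.sum_congr rfl fun i _ => by rw [sv_smul, hall]
  obtain ⟨f, hf, hfE, hspan⟩ := exists_orthonorm_basis hF hnd hlt
  have hv : hermForm 3 F q (f 0) (f 0) = 1 := by rw [hf]; simp
  refine ⟨⟨f 0, hv⟩, sv_ext fun x => ?_⟩
  rw [sv_refl]
  obtain ⟨c, hc⟩ := (Submodule.mem_span_range_iff_exists_fun F).1 (hspan.symm ▸ hproj x : x + sv t x ∈ Submodule.span F (Set.range f))
  rw [Fin.sum_univ_one] at hc
  have hc0 : c 0 = 2 * hermForm 3 F q x (f 0) := by
    have h := congrArg (fun y => hermForm 3 F q y (f 0)) hc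
    simp only [herm_smul_left, hv, herm_add_left, hadj x _ (hfE 0)] at h
    linear_combination h
  rw [← hc0]
  linear_combination (norm := module) -hc

include h2 in
/-- Counting involutions through the vectors of norm one defining them. -/
theorem card_units_vec (P : ↥(SU 3 F q) → Prop) :
    Nat.card {v : {v : Fin 3 → F // hermForm 3 F q v v = 1} // P (refl hF v)} =
      (q + 1) * Nat.card {x : ↥(SU 3 F q) // x ≠ 1 ∧ x * x = 1 ∧ P x} := by
  classical
  let X := {x : ↥(SU 3 F q) // x ≠ 1 ∧ x * x = 1 ∧ P x}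
  haveI : Fintype X := Fintype.ofFinite X
  let π : {v : {v : Fin 3 → F // hermForm 3 F q v v = 1} // P (refl hF v)} → X := fun v =>
    ⟨refl hF v.1, refl_ne_one hF h2 v.1, refl_mul_self hF v.1, v.2⟩
  have hfib : ∀ x : X, Nat.card {v // π v = x} = q + 1 := by
    rintro ⟨x, hx1, hx2, hxP⟩
    obtain ⟨v₀, rfl⟩ := exists_eq_refl hF h2 x hx1 hx2
    rw [← card_norm_one hF]
    refine (Nat.card_congr (Equiv.ofBijective (fun c : {c : F // c ^ (q + 1) = 1} =>
      (⟨⟨⟨c.1 • v₀.1, by rw [herm_self_smul, c.2, v₀.2, mul_one]⟩, by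
          rw [← (refl_eq_refl_iff hF h2 v₀ _).2 ⟨c.1, rfl⟩]; exact hxP⟩,
        Subtype.ext ((refl_eq_refl_iff hF h2 v₀ _).2 ⟨c.1, rfl⟩).symm⟩ : {v // π v = ⟨refl hF v₀, hx1, hx2, hxP⟩})) ⟨?_, ?_⟩)).symm
    · intro c c' h
      have h' : c.1 • v₀.1 = c'.1 • v₀.1 := congrArg (fun v => v.1.1.1) h
      have hv0 : v₀.1 ≠ 0 := fun h0 => by
        have h9 := v₀.2
        rw [h0, herm_zero_left] at h9
        exact zero_ne_one h9
      exact Subtype.ext (smul_left_injective F hv0 h')
    · rintro ⟨⟨w, hwP⟩, hw⟩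
      obtain ⟨c, hc⟩ := (refl_eq_refl_iff hF h2 v₀ w).1 (congrArg Subtype.val hw).symm
      have hn : c ^ (q + 1) = 1 := by
        have := w.2
        rw [hc, herm_self_smul, v₀.2, mul_one] at this
        exact this
      exact ⟨⟨c, hn⟩, Subtype.ext (Subtype.ext (Subtype.ext hc.symm))⟩
  rw [Nat.card_congr (Equiv.sigmaFiberEquiv π).symm, Nat.card_sigma, Finset.sum_congr rfl (fun x _ => hfib x),
    Finset.sum_const, Finset.card_univ, smul_eq_mul, ← Nat.card_eq_fintype_card, mul_comm]

include hF in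
/-- Coordinates along a vector of norm one and its orthogonal complement. -/
theorem exists_split_equiv {v₀ : Fin 3 → F} (hv₀ : hermForm 3 F q v₀ v₀ = 1) :
    ∃ Ψ : (Fin 3 → F) ≃ F × (Fin 2 → F), ∀ v,
      (Ψ v).1 = hermForm 3 F q v v₀ ∧
      hermForm 3 F q v v = (Ψ v).1 ^ (q + 1) + hermForm 2 F q (Ψ v).2 (Ψ v).2 ∧
      ((∃ c : F, v = c • v₀) ↔ (Ψ v).2 = 0) := by
  have hq : q ≠ 0 := by have := two_le_q hF; omega
  obtain ⟨g, hg, hgv⟩ := exists_GU_map_norm_one hF (u := Pi.single 0 1) (v := v₀)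
    (by simp [herm_single_single hF]) hv₀
  have hgi := mem_GU.1 (inv_mem hg)
  set gm : Matrix (Fin 3) (Fin 3) F := (g : Matrix (Fin 3) (Fin 3) F)
  set gi : Matrix (Fin 3) (Fin 3) F := ((g⁻¹ : GL (Fin 3) F) : Matrix (Fin 3) (Fin 3) F)
  have hig : gi * gm = 1 := g.inv_mul
  have hgg : gm * gi = 1 := g.mul_inv
  have hv0 : gi *ᵥ v₀ = Pi.single 0 1 := by rw [← hgv, Matrix.mulVec_mulVec, hig, Matrix.one_mulVec]
  refine ⟨{ toFun := fun v => ((gi *ᵥ v) 0, Fin.tail (gi *ᵥ v))
            invFun := fun p => gm *ᵥ Fin.cons p.1 p.2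
            left_inv := fun v => by
              show gm *ᵥ Fin.cons _ _ = v
              rw [Fin.cons_self_tail, Matrix.mulVec_mulVec, hgg, Matrix.one_mulVec]
            right_inv := fun p => by simp [Matrix.mulVec_mulVec, hig] }, fun v => ⟨?_, ?_, ?_⟩⟩
  · show (gi *ᵥ v) 0 = _
    rw [← hgi v v₀, show _ *ᵥ v₀ = gi *ᵥ v₀ from rfl, hv0]
    exact (herm_single_right _ _ hq).symm
  · show _ = (gi *ᵥ v) 0 ^ (q + 1) + hermForm 2 F q (Fin.tail (gi *ᵥ v)) (Fin.tail (gi *ᵥ v))
    rw [← hgi v v, show _ *ᵥ v = gi *ᵥ v from rfl]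
    conv_lhs => rw [← Fin.cons_self_tail (gi *ᵥ v), herm_cons_cons]
    rw [pow_succ']
  · show _ ↔ Fin.tail (gi *ᵥ v) = 0
    constructor
    · rintro ⟨c, rfl⟩
      funext i
      simp [Fin.tail, Matrix.mulVec_smul, hv0, Pi.single_eq_of_ne (Fin.succ_ne_zero i)]
    · intro h
      refine ⟨(gi *ᵥ v) 0, ?_⟩
      have h1 : gi *ᵥ v = (gi *ᵥ v) 0 • Pi.single 0 1 := by
        funext i
        refine Fin.cases ?_ (fun i => ?_) i
        · simp
        · simp [Fin.succ_ne_zero, show (gi *ᵥ v) i.succ = 0 from congrFun h i]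
      conv_lhs => rw [← Matrix.one_mulVec v, ← hgg, ← Matrix.mulVec_mulVec, h1, Matrix.mulVec_smul]
      rw [hgv]

include hF in
/-- The numbers of norm-one vectors perpendicular to `v₀`, and spanning with it a degenerate plane. -/
theorem card_positions {v₀ : Fin 3 → F} (hv₀ : hermForm 3 F q v₀ v₀ = 1) :
    Nat.card {v : {v : Fin 3 → F // hermForm 3 F q v v = 1} // hermForm 3 F q v.1 v₀ = 0} = q * (q ^ 2 - 1) ∧
    Nat.card {v : {v : Fin 3 → F // hermForm 3 F q v v = 1} //
      hermForm 3 F q v.1 v₀ ^ (q + 1) = 1 ∧ ¬ ∃ c : F, v.1 = c • v₀} = (q + 1) * ((q + 1) * (q ^ 2 - 1)) := by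
  classical
  obtain ⟨Ψ, hΨ⟩ := exists_split_equiv hF hv₀
  have hq := two_le_q hF
  constructor
  · have e : {v : {v : Fin 3 → F // hermForm 3 F q v v = 1} // hermForm 3 F q v.1 v₀ = 0} ≃
        {w : Fin 2 → F // hermForm 2 F q w w = 1} :=
      { toFun := fun v => ⟨(Ψ v.1.1).2, by
          have h := v.1.2
          rw [(hΨ _).2.1, (hΨ _).1, v.2, zero_pow (Nat.succ_ne_zero q), zero_add] at h
          exact h⟩
        invFun := fun w => ⟨⟨Ψ.symm (0, w.1), by
          rw [(hΨ _).2.1, Equiv.apply_symm_apply, zero_pow (Nat.succ_ne_zero q), zero_add, w.2]⟩, by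
          rw [← (hΨ _).1, Equiv.apply_symm_apply]⟩
        left_inv := fun v => by
          refine Subtype.ext (Subtype.ext ?_)
          show Ψ.symm (0, (Ψ v.1.1).2) = v.1.1
          rw [show ((0 : F), (Ψ v.1.1).2) = Ψ v.1.1 from Prod.ext (((hΨ _).1).trans v.2).symm rfl, Equiv.symm_apply_apply]
        right_inv := fun w => Subtype.ext (by show (Ψ (Ψ.symm (0, w.1))).2 = w.1; rw [Equiv.apply_symm_apply]) }
    rw [Nat.card_congr e, show Nat.card {w : Fin 2 → F // hermForm 2 F q w w = 1} = normCount 2 q (1 : F) from rfl,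
      normCount_one_eq hF, if_pos even_two]
    norm_num
  · have e : {v : {v : Fin 3 → F // hermForm 3 F q v v = 1} //
        hermForm 3 F q v.1 v₀ ^ (q + 1) = 1 ∧ ¬ ∃ c : F, v.1 = c • v₀} ≃
        {a : F // a ^ (q + 1) = 1} × {w : Fin 2 → F // hermForm 2 F q w w = 0 ∧ w ≠ 0} :=
      { toFun := fun v => (⟨(Ψ v.1.1).1, by rw [(hΨ _).1]; exact v.2.1⟩, ⟨(Ψ v.1.1).2, by
            have h := v.1.2
            rw [(hΨ _).2.1, (hΨ _).1, v.2.1] at h
            simpa using h, fun h => v.2.2 ((hΨ _).2.2.2 h)⟩)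
        invFun := fun p => ⟨⟨Ψ.symm (p.1.1, p.2.1), by
            rw [(hΨ _).2.1, Equiv.apply_symm_apply, p.1.2, p.2.2.1, add_zero]⟩,
          by rw [← (hΨ _).1, Equiv.apply_symm_apply]; exact p.1.2,
          fun h => p.2.2.2 (by simpa using ((hΨ _).2.2.1 h))⟩
        left_inv := fun v => Subtype.ext (Subtype.ext (by
          show Ψ.symm ((Ψ v.1.1).1, (Ψ v.1.1).2) = v.1.1
          rw [Prod.mk.eta, Equiv.symm_apply_apply]))
        right_inv := fun p => Prod.ext (Subtype.ext (by show (Ψ (Ψ.symm _)).1 = _; rw [Equiv.apply_symm_apply]))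
          (Subtype.ext (by show (Ψ (Ψ.symm _)).2 = _; rw [Equiv.apply_symm_apply])) }
    have hz : normCount 2 q (0 : F) = (q + 1) * (q ^ 2 - 1) + 1 := by
      have h := normCount_zero_eq hF 2
      apply Nat.cast_injective (R := ℤ)
      apply mul_left_cancel₀ (show (q : ℤ) ≠ 0 by exact_mod_cast (show q ≠ 0 by omega))
      rw [h]; push_cast [Nat.cast_sub (show 1 ≤ q ^ 2 from Nat.one_le_pow _ _ (by omega))]; ring
    rw [Nat.card_congr e, Nat.card_prod, card_norm_one hF]
    congr 1
    have hz0 : hermForm 2 F q (0 : Fin 2 → F) 0 = 0 := herm_zero_left _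
    have : normCount 2 q (0 : F) - 1 = Nat.card {w : Fin 2 → F // hermForm 2 F q w w = 0 ∧ w ≠ 0} := by
      rw [normCount, Nat.card_eq_fintype_card, Nat.card_eq_fintype_card, Fintype.card_subtype,
        Fintype.card_subtype, ← Finset.filter_filter, Finset.filter_ne', Finset.card_erase_of_mem (by simp [hz0])]
    rw [← this, hz, Nat.add_sub_cancel]

include hF h2 in
theorem card_involutions :
    Nat.card {x : ↥(SU 3 F q) // x ≠ 1 ∧ x * x = 1} = q ^ 2 * (q ^ 2 - q + 1) := by
  have hq := two_le_q hF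
  have h := card_units_vec hF h2 (fun _ => True)
  rw [Nat.card_congr (Equiv.subtypeUnivEquiv (fun _ => trivial)),
    show Nat.card {v : Fin 3 → F // hermForm 3 F q v v = 1} = normCount 3 q (1 : F) from rfl,
    normCount_one_eq hF, if_neg (by decide)] at h
  rw [Nat.card_congr (Equiv.subtypeEquivRight fun x : ↥(SU 3 F q) =>
    (show (x ≠ 1 ∧ x * x = 1) ↔ (x ≠ 1 ∧ x * x = 1 ∧ True) by simp))]
  refine Nat.eq_of_mul_eq_mul_left (Nat.succ_pos q) ?_
  rw [Nat.succ_eq_add_one, ← h]
  obtain ⟨k, hk⟩ : ∃ k, q ^ 2 = q + k := ⟨q ^ 2 - q, by have : q ≤ q ^ 2 := Nat.le_self_pow two_ne_zero q; omega⟩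
  have hs : q ^ 2 - q = k := by omega
  rw [show 3 - 1 = 2 from rfl, hs]
  zify at hk ⊢
  linear_combination ((q : ℤ) ^ 2 * ((q : ℤ) + 1)) * hk

end CfsgLib.Unitary
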