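import Cfsg.Agent.Classical.Unitary.Order
import Cfsg.Agent.FreeGroupLaws.Classical
import Cfsg.Agent.Classical.Linear.Card

/-!
# The unitary group of degree two

`SU 2 F q ≃* SL(2, K)` for `|F| = q²`, `|K| = q`.
-/

set_option autoImplicit false

namespace CfsgLib.UnitaryTwo

open Matrix

variable {F K : Type*} [Field F] [Fintype F] [Field K] [Fintype K] {q : ℕ}

theorem exists_injective_hom (hF : Fintype.card F = q ^ 2) (hK : Fintype.card K = q) :
    ∃ f : Matrix.SpecialLinearGroup (Fin 2) K →* Cfsg.SU 2 F q, Function.Injective f := by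
  classical
  obtain ⟨⟨σ, hσ, hσ2, -⟩, c, d, lam, δ, hδne, hδq, hc, hd, hcd, hlam, hld⟩ :=
    CfsgLib.FreeGroupLaws.exists_hermitian_pair hF
  let F₀ : Subfield F := σ.eqLocusField (RingHom.id F)
  have hmem : ∀ x : F, x ∈ F₀ ↔ x ^ q = x := fun x => by
    rw [← hσ]; rfl
  haveI : Fintype F₀ := Fintype.ofFinite F₀
  have hcard : Fintype.card K = Fintype.card F₀ := by
    rw [hK, ← Nat.card_eq_fintype_card, Nat.card_congr (Equiv.subtypeEquivRight hmem),
      CfsgLib.Unitary.card_fixed hF]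
  let e : K ≃+* F₀ := FiniteField.ringEquivOfCardEq hcard
  let ι : K →+* F := F₀.subtype.comp e.toRingHom
  have hι : ∀ x, ι x ^ q = ι x := fun x => (hmem _).1 (e x).2
  let P : Matrix (Fin 2) (Fin 2) F := !![1, lam; c, lam * d]
  have hP : P.det ≠ 0 := by
    simp only [P, Matrix.det_fin_two_of, one_mul]
    rw [mul_comm lam c, mul_comm c lam, ← mul_sub]
    exact mul_ne_zero hlam (sub_ne_zero_of_ne (Ne.symm hcd))
  have hld2 : lam * (1 + c ^ q * d) = -δ := by
    have := congrArg σ hld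
    rw [← hσ lam, map_mul, hσ2, map_add, map_one, map_mul, ← hσ d, hσ2, hσ c, hσ δ, hδq] at this
    exact this
  have hpair : ∀ x y : Fin 2 → F, (P *ᵥ x) 0 * (P *ᵥ y) 0 ^ q + (P *ᵥ x) 1 * (P *ᵥ y) 1 ^ q =
      δ * (x 0 * y 1 ^ q - x 1 * y 0 ^ q) := by
    intro x y
    simp only [P, Matrix.mulVec, dotProduct, Fin.sum_univ_two, Matrix.of_apply, Matrix.cons_val',
      Matrix.cons_val_zero, Matrix.cons_val_one, Matrix.cons_val_fin_one]
    rw [← hσ, ← hσ (_ + _), map_add, map_add, map_mul, map_mul, map_mul, map_mul, map_mul,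
      map_one, hσ, hσ, hσ, hσ, hσ]
    have hc0 : c * c ^ q = -1 := by rw [← pow_succ', hc]
    have hd0 : d * d ^ q = -1 := by rw [← pow_succ', hd]
    linear_combination (x 0 * y 0 ^ q) * hc0 + (x 0 * y 1 ^ q) * hld + (x 1 * y 0 ^ q) * hld2 +
      (x 1 * y 1 ^ q * lam * lam ^ q) * hd0
  let Pgl : GL (Fin 2) F := Matrix.GeneralLinearGroup.mkOfDetNeZero P hP
  let φ : SpecialLinearGroup (Fin 2) K →* Matrix (Fin 2) (Fin 2) F :=
    (Units.coeHom _).comp ((MulAut.conj Pgl).toMonoidHom.comp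
      (SpecialLinearGroup.toGL.comp (SpecialLinearGroup.map ι)))
  have hdet : ∀ A, (φ A).det = 1 := by
    intro A
    simp only [φ, MonoidHom.comp_apply, Units.coeHom_apply, MulEquiv.coe_toMonoidHom,
      MulAut.conj_apply, Units.val_mul]
    rw [Matrix.det_units_conj]
    exact (SpecialLinearGroup.map ι A).2
  let φ' : SpecialLinearGroup (Fin 2) K →* SpecialLinearGroup (Fin 2) F :=
    { toFun := fun A => ⟨φ A, hdet A⟩
      map_one' := Subtype.ext (map_one φ)
      map_mul' := fun A B => Subtype.ext (map_mul φ A B) }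
  have hpres : ∀ A u v, (φ A *ᵥ u) 0 * (φ A *ᵥ v) 0 ^ q + (φ A *ᵥ u) 1 * (φ A *ᵥ v) 1 ^ q =
      u 0 * v 0 ^ q + u 1 * v 1 ^ q := by
    intro A u v
    set M : Matrix (Fin 2) (Fin 2) F := (A : Matrix (Fin 2) (Fin 2) K).map ι with hM
    set Q : Matrix (Fin 2) (Fin 2) F := ((Pgl⁻¹ : GL (Fin 2) F) : Matrix (Fin 2) (Fin 2) F) with hQ
    have hPQ : P * Q = 1 := Pgl.mul_inv
    have happ : ∀ u, φ A *ᵥ u = P *ᵥ (M *ᵥ (Q *ᵥ u)) := by
      intro u
      rw [Matrix.mulVec_mulVec, Matrix.mulVec_mulVec]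
      rfl
    have hu : u = P *ᵥ (Q *ᵥ u) := by rw [Matrix.mulVec_mulVec, hPQ, Matrix.one_mulVec]
    have hv : v = P *ᵥ (Q *ᵥ v) := by rw [Matrix.mulVec_mulVec, hPQ, Matrix.one_mulVec]
    rw [happ, happ, hpair]
    conv_rhs => rw [hu, hv, hpair]
    generalize Q *ᵥ u = x
    generalize Q *ᵥ v = y
    have hMq : ∀ i j, M i j ^ q = M i j := fun i j => hι _
    have hdM : M 0 0 * M 1 1 - M 0 1 * M 1 0 = 1 := by
      rw [← Matrix.det_fin_two]
      exact (SpecialLinearGroup.map ι A).2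
    simp only [Matrix.mulVec, dotProduct, Fin.sum_univ_two]
    rw [← hσ, ← hσ (M 0 0 * y 0 + M 0 1 * y 1), map_add, map_add, map_mul, map_mul, map_mul,
      map_mul, hσ, hσ, hσ, hσ, hσ, hσ, hMq, hMq, hMq, hMq]
    linear_combination (δ * (x 0 * y 1 ^ q - x 1 * y 0 ^ q)) * hdM
  refine ⟨φ'.codRestrict _ fun A u v => ?_, fun A B h => ?_⟩
  · change Cfsg.hermForm 2 F q (φ A *ᵥ u) (φ A *ᵥ v) = _
    simp only [Cfsg.hermForm, Fin.sum_univ_two]
    exact hpres A u v
  · have h2 : (φ' A : Matrix (Fin 2) (Fin 2) F) = (φ' B : Matrix (Fin 2) (Fin 2) F) :=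
      congrArg Subtype.val (congrArg Subtype.val h)
    have h3 : (MulAut.conj Pgl) (SpecialLinearGroup.toGL (SpecialLinearGroup.map ι A)) =
        (MulAut.conj Pgl) (SpecialLinearGroup.toGL (SpecialLinearGroup.map ι B)) := Units.ext h2
    have h4 := congrArg (fun x : GL (Fin 2) F => (x : Matrix (Fin 2) (Fin 2) F))
      ((MulAut.conj Pgl).injective h3)
    exact Subtype.ext (Matrix.map_injective ι.injective h4)

theorem su_two_equiv_sl_two (hF : Fintype.card F = q ^ 2) (hK : Fintype.card K = q) :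
    Nonempty (Cfsg.SU 2 F q ≃* Matrix.SpecialLinearGroup (Fin 2) K) := by
  classical
  obtain ⟨f, hf⟩ := exists_injective_hom (K := K) hF hK
  have h := CfsgLib.Unitary.card_SU hF 2 (by norm_num)
  simp [Finset.prod_range_succ, -Nat.card_eq_fintype_card] at h
  have hsl : Nat.card (Matrix.SpecialLinearGroup (Fin 2) K) = q * (q ^ 2 - 1) := by
    rw [CfsgLib.Classical.Linear.card_sl_two, hK]
  have hcard : Nat.card (Matrix.SpecialLinearGroup (Fin 2) K) = Nat.card (Cfsg.SU 2 F q) := by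
    rw [hsl]
    apply Nat.eq_of_mul_eq_mul_left (Nat.succ_pos q)
    rw [Nat.succ_eq_add_one, h]
    ring
  exact ⟨(MulEquiv.ofBijective f ((Nat.bijective_iff_injective_and_card _).2 ⟨hf, hcard⟩)).symm⟩

end CfsgLib.UnitaryTwo
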