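import Cfsg.Agent.Classical.Unitary.Transvection
import Cfsg.Agent.OrthGeo.TensorThree
import Cfsg.Prelude.Def_LieClassical
import Cfsg.Agent.Eq.Def_LieClassical

/-! Over the field with four elements the stabiliser of a tensor decomposition with a two dimensional
unitary factor permutes two orthogonal blocks, so it is not maximal. -/

set_option autoImplicit false
set_option linter.unusedSectionVars false

namespace CfsgLib.Unitary

open Cfsg Cfsg.Geo Module
open CfsgLib.OrthGeo (pureTen kronecker_mulVec_pureTen inv_mulVec_cancel mulVec_inv_cancel)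
open scoped Matrix MatrixGroups Kronecker

variable {F : Type*} [Field F] [Fintype F] {q : ℕ}

/-- a sesquilinear form as a functional in its first variable -/
def uLeft {κ : Type} [Fintype κ] [DecidableEq κ] {f : (κ → F) → (κ → F) → F} (hf : IsUnitaryFormPow q f)
    (v : κ → F) : (κ → F) →ₗ[F] F where
  toFun u := f u v
  map_add' := fun a b => hf.add_left a b v
  map_smul' := fun c a => hf.smul_left c a v

lemma uLeft_apply {κ : Type} [Fintype κ] [DecidableEq κ] {f : (κ → F) → (κ → F) → F}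
    (hf : IsUnitaryFormPow q f) (v u : κ → F) : uLeft hf v u = f u v := rfl

lemma unitary_add_right (hF : Fintype.card F = q ^ 2) {κ : Type} [Fintype κ] [DecidableEq κ]
    {f : (κ → F) → (κ → F) → F} (hf : IsUnitaryFormPow q f) (u v w : κ → F) : f u (v + w) = f u v + f u w := by
  rw [hf.herm, hf.add_left, add_pow_q hF, ← hf.herm, ← hf.herm]

lemma unitary_smul_right {κ : Type} [Fintype κ] [DecidableEq κ]
    {f : (κ → F) → (κ → F) → F} (hf : IsUnitaryFormPow q f) (c : F) (u v : κ → F) :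
    f u (c • v) = c ^ q * f u v := by
  rw [hf.herm, hf.smul_left, mul_pow, ← hf.herm]

lemma unitary_formOfGram (hF : Fintype.card F = q ^ 2) {κ : Type} [Fintype κ] [DecidableEq κ]
    {f : (κ → F) → (κ → F) → F} (hf : IsUnitaryFormPow q f) (x y : κ → F) :
    formOfGram (fun a : F => a ^ q) (gramMatrix f) x y = f x y := by
  have e1 : ∀ u v : κ → F, f u v = ∑ a, u a * f (Pi.single a 1) v := fun u v => by
    conv_lhs => rw [← uLeft_apply hf, pi_eq_sum_univ' u]
    simp [map_sum, map_smul, uLeft_apply]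
  rw [e1 x y]
  refine Finset.sum_congr rfl fun a _ => ?_
  rw [hf.herm (Pi.single a 1) y, e1 y, sum_pow_q hF, Finset.mul_sum]
  refine Finset.sum_congr rfl fun b _ => ?_
  rw [mul_pow, ← hf.herm, gramMatrix]
  ring

lemma unitary_formOfGram_pureTen (hF : Fintype.card F = q ^ 2) {κ κ' : Type} [Fintype κ] [DecidableEq κ]
    [Fintype κ'] [DecidableEq κ'] {f : (κ → F) → (κ → F) → F} {f' : (κ' → F) → (κ' → F) → F}
    (hf : IsUnitaryFormPow q f) (hf' : IsUnitaryFormPow q f') (x x' : κ → F) (y y' : κ' → F) :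
    formOfGram (fun a : F => a ^ q) (gramMatrix f ⊗ₖ gramMatrix f') (pureTen x y) (pureTen x' y')
      = f x x' * f' y y' := by
  rw [← unitary_formOfGram hF hf, ← unitary_formOfGram hF hf']
  simp only [formOfGram, pureTen, Matrix.kroneckerMap_apply, Fintype.sum_prod_type]
  rw [Finset.sum_mul]
  refine Finset.sum_congr rfl fun i _ => ?_
  rw [Finset.sum_mul, Finset.sum_comm]
  refine Finset.sum_congr rfl fun j _ => ?_
  rw [Finset.mul_sum]
  refine Finset.sum_congr rfl fun k _ => ?_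
  rw [Finset.mul_sum]
  refine Finset.sum_congr rfl fun l _ => ?_
  ring

lemma four_fixed (hF : Fintype.card F = 2 ^ 2) {x : F} (hx : x ^ 2 = x) : x = 0 ∨ x = 1 := by
  have h : x * (x - 1) = 0 := by linear_combination hx
  exact (mul_eq_zero.1 h).imp_right sub_eq_zero.1

lemma four_norm (hF : Fintype.card F = 2 ^ 2) {x : F} (hx : x ≠ 0) : x ^ 3 = 1 := by
  have := FiniteField.pow_card_sub_one_eq_one x hx
  rwa [hF] at this

lemma four_two_eq_zero (hF : Fintype.card F = 2 ^ 2) : (2 : F) = 0 := by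
  have h := FiniteField.cast_card_eq_zero F
  rw [hF] at h
  rw [Nat.cast_pow, Nat.cast_ofNat] at h
  exact (pow_eq_zero_iff two_ne_zero).1 h

lemma four_neg (hF : Fintype.card F = 2 ^ 2) (x : F) : -x = x := by
  linear_combination (-x) * four_two_eq_zero hF

lemma four_exists_trace_ne_zero (hF : Fintype.card F = 2 ^ 2) : ∃ c : F, c + c ^ 2 ≠ 0 := by
  classical
  by_contra h
  push Not at h
  have : (Finset.univ : Finset F) ⊆ {0, 1} := fun x _ => by
    have hx : x ^ 2 = x := by linear_combination h x - x * four_two_eq_zero hF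
    rcases four_fixed hF hx with rfl | rfl <;> simp
  have := (Finset.card_le_card this).trans Finset.card_le_two
  rw [Finset.card_univ, hF] at this
  omega

theorem tensor_two_not_maximal (hF : Fintype.card F = 2 ^ 2) {n n₂ : ℕ} (h2 : 2 ≤ n₂)
    (e : Fin n ≃ Fin 2 × Fin n₂) (P : GL (Fin n) F)
    (f₁ : (Fin 2 → F) → (Fin 2 → F) → F) (f₂ : (Fin n₂ → F) → (Fin n₂ → F) → F)
    (hf₁ : IsUnitaryFormPow 2 f₁) (hf₂ : IsUnitaryFormPow 2 f₂)
    (hT : IsTensorFormStructure (fun x : F => x ^ 2) (hermForm n F 2) f₁ f₂ e P) :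
    ∃ K : Subgroup (GL (Fin n) F),
      tensorProductSubgroup 2 n₂ e P ⊓ (GU n F 2 ⊓ specialLinear (Fin n) F) < K ∧
      K < GU n F 2 ⊓ specialLinear (Fin n) F := by
  classical
  obtain ⟨c, hc, hcT⟩ := hT
  have hfix : ∀ {κ : Type} [Fintype κ] [DecidableEq κ] {f : (κ → F) → (κ → F) → F},
      IsUnitaryFormPow 2 f → ∀ v, f v v ≠ 0 → f v v = 1 := fun hf v h =>
    (four_fixed hF (hf.herm v v).symm).resolve_left h
  -- an orthonormal basis of the first factor
  obtain ⟨v0, hv0⟩ : ∃ v0, f₁ v0 v0 = 1 := by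
    by_contra hno
    push Not at hno
    have h0 : ∀ v, f₁ v v = 0 := fun v => by_contra fun h => hno v (hfix hf₁ v h)
    obtain ⟨u, hu⟩ : ∃ u : Fin 2 → F, u ≠ 0 := ⟨Pi.single 0 1, by simp⟩
    obtain ⟨v, hv⟩ := (hf₁.nondegenerate u hu).2
    obtain ⟨d, hd⟩ := four_exists_trace_ne_zero hF
    have h := h0 ((d * (f₁ u v)⁻¹) • u + v)
    rw [hf₁.add_left, unitary_add_right hF hf₁, unitary_add_right hF hf₁, hf₁.herm v, h0, h0,
      hf₁.smul_left, inv_mul_cancel_right₀ hv, zero_add, add_zero] at h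
    exact hd h
  obtain ⟨v1, hv1n, hv10⟩ : ∃ v1, v1 ≠ 0 ∧ f₁ v1 v0 = 0 := by
    have := LinearMap.ker_ne_bot_of_finrank_lt (f := uLeft hf₁ v0)
      (by rw [Module.finrank_self, Module.finrank_fin_fun]; omega)
    obtain ⟨w, hw, hw0⟩ := Submodule.exists_mem_ne_zero_of_ne_bot this
    exact ⟨w, hw0, hw⟩
  have hli : LinearIndependent F ![v0, v1] := by
    rw [LinearIndependent.pair_iff]
    intro s t hst
    have h := congrArg (uLeft hf₁ v0) hst
    simp only [map_add, map_smul, uLeft_apply, hv0, hv10, map_zero, smul_eq_mul, mul_one, mul_zero,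
      add_zero] at h
    rw [h, zero_smul, zero_add, smul_eq_zero] at hst
    exact ⟨h, hst.resolve_right hv1n⟩
  let v : Basis (Fin 2) F (Fin 2 → F) := basisOfLinearIndependentOfCardEqFinrank hli (by simp)
  have hvv : ⇑v = ![v0, v1] := coe_basisOfLinearIndependentOfCardEqFinrank hli (by simp)
  have hv01 : f₁ v0 v1 = 0 := by rw [hf₁.herm, hv10]; simp
  have hv11 : f₁ v1 v1 = 1 := by
    refine hfix hf₁ _ fun h => ?_
    obtain ⟨x, hx⟩ := (hf₁.nondegenerate v1 hv1n).1
    apply hx
    rw [← uLeft_apply hf₁, ← v.sum_repr x, map_sum, Fin.sum_univ_two, hvv]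
    simp [uLeft_apply, h, hv01]
  have hv : ∀ i j, f₁ (v i) (v j) = if i = j then 1 else 0 := by
    intro i j
    rw [hvv]
    fin_cases i <;> fin_cases j <;> simp [hv0, hv01, hv10, hv11]
  -- monomiality
  have hmono : ∀ a : Fin 2 → (Fin 2 → F), (∀ i j, f₁ (a i) (a j) = if i = j then 1 else 0) →
      ∃ σ : Equiv.Perm (Fin 2), ∀ i, ∃ s : F, s ≠ 0 ∧ a i = s • v (σ i) := by
    intro a ha
    have hsum : ∀ i j, f₁ (a i) (a j) = ∑ k, v.repr (a i) k * v.repr (a j) k ^ 2 := by
      intro i j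
      conv_lhs => rw [← v.sum_repr (a i), ← v.sum_repr (a j)]
      simp only [Fin.sum_univ_two, hf₁.add_left, unitary_add_right hF hf₁, hf₁.smul_left,
        unitary_smul_right hf₁, hv]
      simp
    have hrow : ∀ i, ∃ k, v.repr (a i) k ≠ 0 ∧ ∀ l, l ≠ k → v.repr (a i) l = 0 := by
      intro i
      have h := hsum i i
      rw [ha, if_pos rfl, Fin.sum_univ_two, ← pow_succ', ← pow_succ'] at h
      by_cases a0 : v.repr (a i) 0 = 0
      · refine ⟨1, fun a1 => ?_, fun l hl => ?_⟩
        · rw [a0, a1, zero_pow (by norm_num), add_zero] at h; exact one_ne_zero h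
        · match l, hl with
          | 0, _ => exact a0
          | 1, hl => exact absurd rfl hl
      · refine ⟨0, a0, fun l hl => ?_⟩
        match l, hl with
        | 0, hl => exact absurd rfl hl
        | 1, _ =>
          by_contra a1
          rw [four_norm hF a0, four_norm hF a1] at h
          exact one_ne_zero (show (1 : F) = 0 by linear_combination h + four_two_eq_zero hF)
    choose σ hσ hσ' using hrow
    have hai : ∀ i, a i = v.repr (a i) (σ i) • v (σ i) := fun i => by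
      conv_lhs => rw [← v.sum_repr (a i)]
      exact Finset.sum_eq_single (σ i) (fun l _ hl => by rw [hσ' i l hl, zero_smul])
        (fun h => absurd (Finset.mem_univ _) h)
    have hinj : Function.Injective σ := by
      intro i j e
      by_contra hij
      have h := hsum i j
      rw [ha, if_neg hij, Finset.sum_eq_single (σ i)
        (fun l _ hl => by rw [hσ' i l hl, zero_mul]) (fun h => absurd (Finset.mem_univ _) h)] at h
      exact mul_ne_zero (hσ i) (pow_ne_zero 2 (e ▸ hσ j)) h.symm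
    exact ⟨Equiv.ofBijective σ (Finite.injective_iff_bijective.1 hinj), fun i => ⟨_, hσ i, hai i⟩⟩
  -- blocks
  let ten : (Fin 2 → F) → (Fin n₂ → F) → (Fin n → F) := fun x y =>
    (P : Matrix (Fin n) (Fin n) F) *ᵥ (pureTen x y ∘ e)
  have hten : ∀ x y x' y', hermForm n F 2 (ten x y) (ten x' y') = c * (f₁ x x' * f₂ y y') := fun x y x' y' =>
    (hcT _ _).trans (by rw [unitary_formOfGram_pureTen hF hf₁ hf₂])
  have hteninj : ∀ x y x' y', ten x y = ten x' y' → ∀ i k, x i * y k = x' i * y' k := by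
    intro x y x' y' h i k
    have h' := congrArg (fun z => ((P⁻¹ : GL (Fin n) F) : Matrix (Fin n) (Fin n) F) *ᵥ z) h
    simp only [ten, inv_mulVec_cancel] at h'
    have := congrFun h' (e.symm (i, k))
    simpa [pureTen] using this
  let T : Fin 2 → (Fin n₂ → F) →ₗ[F] (Fin n → F) := fun i =>
    { toFun := ten (v i)
      map_add' := fun y y' => by
        show (P : Matrix (Fin n) (Fin n) F) *ᵥ _ = _
        rw [← Matrix.mulVec_add]; congr 1; funext p; simp [pureTen, mul_add]
      map_smul' := fun t y => by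
        show (P : Matrix (Fin n) (Fin n) F) *ᵥ _ = _
        rw [RingHom.id_apply, ← Matrix.mulVec_smul]; congr 1; funext p; simp [pureTen]; ring }
  have hTT : ∀ i j y y', hermForm n F 2 (T i y) (T j y') = if i = j then c * f₂ y y' else 0 := fun i j y y' => by
    show hermForm n F 2 (ten (v i) y) (ten (v j) y') = _
    rw [hten, hv]; split_ifs <;> ring
  let D : Fin 2 → Submodule F (Fin n → F) := fun i => LinearMap.range (T i)
  set G := GU n F 2 ⊓ specialLinear (Fin n) F
  set K : Subgroup (GL (Fin n) F) := decompositionStabilizer D ⊓ G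
  have hgt : ∀ (g : GL (Fin n) F) (A : GL (Fin 2) F) (B : GL (Fin n₂) F),
      (g : Matrix (Fin n) (Fin n) F) = CfsgLib.Aschbacher.tconj e P ((A : Matrix _ _ F) ⊗ₖ (B : Matrix _ _ F)) →
      ∀ x y, (g : Matrix (Fin n) (Fin n) F) *ᵥ ten x y
        = ten ((A : Matrix _ _ F) *ᵥ x) ((B : Matrix _ _ F) *ᵥ y) := by
    intro g A B hAB x y
    rw [hAB, CfsgLib.Aschbacher.tconj_apply]
    simp only [ten]
    rw [← Matrix.mulVec_mulVec, inv_mulVec_cancel, ← Matrix.mulVec_mulVec, ← kronecker_mulVec_pureTen]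
    congr 1
    rw [Matrix.submatrix_mulVec_equiv, Function.comp_assoc, Equiv.self_comp_symm, Function.comp_id]
  -- an isotropic vector of the second factor
  obtain ⟨u, hu, huu⟩ : ∃ u : Fin n₂ → F, u ≠ 0 ∧ f₂ u u = 0 := by
    obtain ⟨p, hp⟩ : ∃ p : Fin n₂ → F, p ≠ 0 := ⟨Pi.single ⟨0, by omega⟩ 1, by simp⟩
    by_cases hpp : f₂ p p = 0
    · exact ⟨p, hp, hpp⟩
    obtain ⟨p', hp', hp'0⟩ := Submodule.exists_mem_ne_zero_of_ne_bot
      (LinearMap.ker_ne_bot_of_finrank_lt (f := uLeft hf₂ p)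
        (by rw [Module.finrank_self, Module.finrank_fin_fun]; omega))
    replace hp' : f₂ p' p = 0 := hp'
    by_cases hpp' : f₂ p' p' = 0
    · exact ⟨p', hp'0, hpp'⟩
    refine ⟨p + p', fun h0 => ?_, ?_⟩
    · have h := congrArg (uLeft hf₂ p) h0
      rw [map_add, uLeft_apply, uLeft_apply, hp', map_zero, add_zero] at h
      exact hpp h
    · rw [hf₂.add_left, unitary_add_right hF hf₂, unitary_add_right hF hf₂, hf₂.herm p p', hp', hfix hf₂ _ hpp,
        hfix hf₂ _ hpp']
      linear_combination four_two_eq_zero hF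
  obtain ⟨w, hw⟩ := (hf₂.nondegenerate u hu).1
  have hk : c * f₂ w u ≠ 0 := mul_ne_zero hc hw
  have hle : tensorProductSubgroup 2 n₂ e P ⊓ G ≤ K := by
    rintro g ⟨hg, hgG⟩
    refine ⟨?_, hgG⟩
    obtain ⟨A, B, hAB⟩ := (CfsgLib.Aschbacher.mem_tensorProductSubgroup_iff e P g).1 hg
    have hiso : ∀ x x' y y', f₁ ((A : Matrix _ _ F) *ᵥ x) ((A : Matrix _ _ F) *ᵥ x') *
        f₂ ((B : Matrix _ _ F) *ᵥ y) ((B : Matrix _ _ F) *ᵥ y') = f₁ x x' * f₂ y y' := by
      intro x x' y y'
      have h : hermForm n F 2 ((g : Matrix (Fin n) (Fin n) F) *ᵥ ten x y)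
          ((g : Matrix (Fin n) (Fin n) F) *ᵥ ten x' y') = hermForm n F 2 (ten x y) (ten x' y') := hgG.1 _ _
      rw [hgt g A B hAB, hgt g A B hAB, hten, hten] at h
      exact mul_left_cancel₀ hc h
    set t := f₂ ((B : Matrix _ _ F) *ᵥ w) ((B : Matrix _ _ F) *ᵥ u)
    have ht0 : t ≠ 0 := by
      intro h0
      have h := hiso (v 0) (v 0) w u
      rw [hv, if_pos rfl, one_mul, show f₂ ((B : Matrix _ _ F) *ᵥ w) ((B : Matrix _ _ F) *ᵥ u) = t from rfl,
        h0, mul_zero] at h
      exact hw h.symm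
    have hA : ∀ i j, f₁ ((A : Matrix _ _ F) *ᵥ v i) ((A : Matrix _ _ F) *ᵥ v j)
        = (f₂ w u * t⁻¹) * if i = j then 1 else 0 := by
      intro i j
      rw [← hv, mul_comm (f₂ w u * t⁻¹), ← mul_assoc, ← hiso, mul_assoc, mul_inv_cancel₀ ht0, mul_one]
    have hμ : f₂ w u * t⁻¹ = 1 := by
      have h := hA 0 0
      rw [if_pos rfl, mul_one] at h
      rw [← h]
      exact hfix hf₁ _ (by rw [h]; exact mul_ne_zero hw (inv_ne_zero ht0))
    simp only [hμ, one_mul] at hA
    obtain ⟨σ, hσ⟩ := hmono (fun i => (A : Matrix _ _ F) *ᵥ v i) hA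
    refine ⟨σ, fun i => ?_⟩
    obtain ⟨s, hs, hsa⟩ := hσ i
    have hgT : ∀ y, (g : Matrix (Fin n) (Fin n) F) *ᵥ T i y = T (σ i) (s • ((B : Matrix _ _ F) *ᵥ y)) := by
      intro y
      show (g : Matrix (Fin n) (Fin n) F) *ᵥ ten (v i) y = ten (v (σ i)) _
      rw [hgt g A B hAB, hsa]
      simp only [ten]
      congr 1
      funext p; simp [pureTen]; ring
    apply le_antisymm
    · rintro _ ⟨_, ⟨y, rfl⟩, rfl⟩
      exact ⟨_, (hgT y).symm⟩
    · rintro _ ⟨y, rfl⟩
      refine ⟨T i (((B⁻¹ : GL (Fin n₂) F) : Matrix _ _ F) *ᵥ (s⁻¹ • y)), ⟨_, rfl⟩, ?_⟩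
      rw [Matrix.toLin'_apply, hgT, mulVec_inv_cancel, smul_smul, mul_inv_cancel₀ hs, one_smul]
  -- transvections
  have htr : ∀ a : Fin n → F, hermForm n F 2 a a = 0 → ∃ g : GL (Fin n) F, g ∈ G ∧
      ∀ x, (g : Matrix (Fin n) (Fin n) F) *ᵥ x = x + hermForm n F 2 x a • a := by
    intro a ha
    have hdet : (rankOne 2 a a).det = 1 := by rw [det_rankOne, ha, add_zero]
    refine ⟨Matrix.GeneralLinearGroup.mkOfDetNeZero (rankOne 2 a a) (by rw [hdet]; exact one_ne_zero),
      ⟨fun x y => ?_, ?_⟩, fun x => rankOne_mulVec a a x⟩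
    · show hermForm n F 2 ((rankOne 2 a a).mulVec x) ((rankOne 2 a a).mulVec y) = _
      rw [rankOne_mulVec, rankOne_mulVec, herm_add_left, herm_add_right hF, herm_add_right hF, herm_smul_left,
        herm_smul_left, herm_smul_right, herm_smul_right, ha, ← herm_conj hF y a]
      linear_combination (hermForm n F 2 x a * hermForm n F 2 a y) * four_two_eq_zero hF
    · exact MonoidHom.mem_ker.2 (Units.ext hdet)
  have hTT0 : ∀ i, hermForm n F 2 (T i u) (T i u) = 0 := fun i => by rw [hTT, if_pos rfl, huu, mul_zero]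
  refine ⟨K, lt_of_le_not_ge hle ?_, lt_of_le_not_ge inf_le_right ?_⟩
  · -- a transvection inside the first block
    intro hge
    obtain ⟨g, hgG, hgx⟩ := htr (T 0 u) (hTT0 0)
    have hgv : ∀ i y, (g : Matrix (Fin n) (Fin n) F) *ᵥ T i y
        = T i (y + (if i = 0 then c * f₂ y u else 0) • u) := by
      intro i y
      rw [hgx, hTT, map_add, map_smul]
      split_ifs with h
      · subst h; rfl
      · simp
    have hgK : g ∈ K := by
      refine ⟨⟨1, fun i => ?_⟩, hgG⟩
      have hinj : Function.Injective (Matrix.toLin' (g : Matrix (Fin n) (Fin n) F)) := fun p q hpq => by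
        have := congrArg (fun r => ((g⁻¹ : GL (Fin n) F) : Matrix (Fin n) (Fin n) F) *ᵥ r) hpq
        simpa [Matrix.toLin'_apply, inv_mulVec_cancel] using this
      refine Submodule.eq_of_le_of_finrank_le ?_ (Submodule.equivMapOfInjective _ hinj (D i)).finrank_eq.le
      rintro _ ⟨_, ⟨y, rfl⟩, rfl⟩
      exact ⟨_, (hgv i y).symm⟩
    obtain ⟨A, B, hAB⟩ := (CfsgLib.Aschbacher.mem_tensorProductSubgroup_iff e P g).1 (hge hgK).1
    have g2 : ∀ y, (g : Matrix (Fin n) (Fin n) F) *ᵥ T 1 y = T 1 y := fun y => by simp [hgv]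
    have g10 : (g : Matrix (Fin n) (Fin n) F) *ᵥ T 0 u = T 0 u := by simp [hgv, huu]
    have g1 : (g : Matrix (Fin n) (Fin n) F) *ᵥ T 0 w ≠ T 0 w := by
      rw [hgv, map_add, Ne, add_eq_left, if_pos rfl, map_smul, smul_eq_zero]
      rintro (h | h)
      · exact hk h
      · have h' := hTT 0 0 w u
        rw [h, herm_zero_right hF, if_pos rfl] at h'
        exact hk h'.symm
    obtain ⟨i, hi⟩ : ∃ i, v 1 i ≠ 0 := Function.ne_iff.1 (v.ne_zero 1)
    have hpure : ∀ y j, ((A : Matrix _ _ F) *ᵥ v 1) i * ((B : Matrix _ _ F) *ᵥ y) j = v 1 i * y j :=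
      fun y j => hteninj _ _ _ _ ((hgt g A B hAB (v 1) y).symm.trans (g2 y)) i j
    set α := ((A : Matrix _ _ F) *ᵥ v 1) i
    obtain ⟨j, hj⟩ := Function.ne_iff.1 hu
    have hα : α ≠ 0 := fun h0 => by
      have := hpure u j
      rw [h0, zero_mul] at this
      exact mul_ne_zero hi hj this.symm
    have hB : ∀ y, (B : Matrix _ _ F) *ᵥ y = (α⁻¹ * v 1 i) • y := fun y => by
      funext j
      rw [Pi.smul_apply, smul_eq_mul, mul_assoc, ← hpure, inv_mul_cancel_left₀ hα]
    apply g1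
    have h0 := hteninj _ _ _ _ ((hgt g A B hAB (v 0) u).symm.trans g10)
    show (g : Matrix (Fin n) (Fin n) F) *ᵥ ten (v 0) w = ten (v 0) w
    rw [hgt g A B hAB]
    simp only [ten]
    congr 2
    funext p
    have h0p := h0 p.1 j
    rw [hB] at h0p ⊢
    simp only [pureTen, Pi.smul_apply, smul_eq_mul] at h0p ⊢
    have : ((A : Matrix _ _ F) *ᵥ v 0) p.1 * (α⁻¹ * v 1 i) = v 0 p.1 :=
      mul_right_cancel₀ hj (by linear_combination h0p)
    linear_combination w p.2 * this
  · -- a transvection mixing both blocks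
    intro hge
    have hiso0 : hermForm n F 2 (T 0 u + T 1 u) (T 0 u + T 1 u) = 0 := by
      rw [herm_add_left, herm_add_right hF, herm_add_right hF, hTT0, hTT0, hTT, hTT, if_neg (by decide),
        if_neg (by decide), add_zero, add_zero]
    obtain ⟨g, hgG, hgx⟩ := htr _ hiso0
    have hgv : ∀ y, (g : Matrix (Fin n) (Fin n) F) *ᵥ T 0 y = T 0 y + (c * f₂ y u) • (T 0 u + T 1 u) := by
      intro y
      rw [hgx, herm_add_right hF, hTT, hTT, if_pos rfl, if_neg (by decide), add_zero]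
    obtain ⟨σ, hσ⟩ := (hge hgG).1
    have hmem : ∀ y, (g : Matrix (Fin n) (Fin n) F) *ᵥ T 0 y ∈ D (σ 0) := fun y => by
      rw [← hσ 0]; exact ⟨T 0 y, ⟨y, rfl⟩, rfl⟩
    have hσ0 : σ 0 = 0 := by
      by_contra hne
      obtain ⟨y, hy⟩ := hmem u
      rw [hgv, huu, mul_zero, zero_smul, add_zero] at hy
      have h := congrArg (fun r => hermForm n F 2 (T 0 w) r) hy
      simp only [hTT, if_neg (Ne.symm hne), if_pos rfl] at h
      exact hk h.symm
    obtain ⟨y, hy⟩ := hmem w
    rw [hσ0, hgv] at hy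
    have h := congrArg (fun r => hermForm n F 2 r (T 1 w)) hy
    simp only [herm_add_left, herm_smul_left, hTT] at h
    have hw' : f₂ u w ≠ 0 := fun h' => hw (by rw [hf₂.herm, h']; simp)
    simp [hc, hw, hw'] at h

end CfsgLib.Unitary
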